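import Mathlib

set_option autoImplicit false
set_option backward.isDefEq.respectTransparency.types false
set_option linter.style.haveILetI false
universe u
open CategoryTheory CategoryTheory.Limits AlgebraicGeometry Opposite TopologicalSpace

namespace Groth.Agent.Lib.Helper23.HilbImm

variable {V P Q T : Scheme.{u}}

/-- an immersion, proper over a base over which the target is separated, is a closed immersion. -/
theorem isClosedImmersion_of_proper (c : V ⟶ Q) [IsImmersion c] (q : Q ⟶ T) [IsSeparated q]
    [IsProper (c ≫ q)] : IsClosedImmersion c := by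
  haveI : IsProper c := IsProper.of_comp c q
  exact IsClosedImmersion.of_isPreimmersion c c.isClosedMap.isClosed_range

/-- two closed subschemes of `P` whose images under a monomorphism `m : P ⟶ Q` are closed subschemes
with the same ideal are equal. -/
theorem ideal_eq_of_ker_comp_eq (I J : P.IdealSheafData) (m : P ⟶ Q) [Mono m]
    [IsClosedImmersion (I.subschemeι ≫ m)] [IsClosedImmersion (J.subschemeι ≫ m)]
    (h : (I.subschemeι ≫ m).ker = (J.subschemeι ≫ m).ker) : I = J := by
  have key : ∀ (I J : P.IdealSheafData) [IsClosedImmersion (I.subschemeι ≫ m)]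
      [IsClosedImmersion (J.subschemeι ≫ m)],
      (J.subschemeι ≫ m).ker ≤ (I.subschemeι ≫ m).ker → J ≤ I := by
    intro I J _ _ hle
    let l := IsClosedImmersion.lift (J.subschemeι ≫ m) (I.subschemeι ≫ m) hle
    have hl : l ≫ J.subschemeι ≫ m = I.subschemeι ≫ m := IsClosedImmersion.lift_fac _ _ _
    have hl' : l ≫ J.subschemeι = I.subschemeι := by
      rw [← cancel_mono m, Category.assoc, hl]
    calc J = J.subschemeι.ker := (Scheme.IdealSheafData.ker_subschemeι J).symm
      _ ≤ (l ≫ J.subschemeι).ker := Scheme.Hom.le_ker_comp _ _
      _ = I.subschemeι.ker := by rw [hl']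
      _ = I := Scheme.IdealSheafData.ker_subschemeι I
  exact le_antisymm (key J I h.le) (key I J h.ge)

end Groth.Agent.Lib.Helper23.HilbImm
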